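import Cfsg.Agent.Leech.Co1

/-! # The lattice modulo two, coded by 24-bit numbers; automorphisms coded by bit matrices -/

set_option autoImplicit false

namespace Cfsg.Agent.Leech

open Finset Cfsg.Agent.M24 Cfsg.Spor
open scoped symmDiff Pointwise

/-- Twice the lattice. -/
def twoL : AddSubgroup Lv where
  carrier := {v | Cong v.1 0}
  zero_mem' := Cong.refl _
  add_mem' {v w} h h' := by simpa using Cong.add h h'
  neg_mem' {v} h := (cong_neg v.2).trans h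

/-- The lattice modulo two. -/
def Lt : Type := Lv ⧸ twoL

instance addCommGroupLt : AddCommGroup Lt := inferInstanceAs (AddCommGroup (Lv ⧸ twoL))

/-- The class of a lattice vector. -/
def cl : Lv →+ Lt := QuotientAddGroup.mk' twoL

theorem cl_surj : Function.Surjective cl := QuotientAddGroup.mk'_surjective _

theorem cl_eq {v w : Lv} : cl v = cl w ↔ Cong v.1 w.1 := by
  refine QuotientAddGroup.eq_iff_sub_mem.trans ?_
  change Cong (v - w).1 0 ↔ _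
  simp [Cong]

theorem Lt_add_self (x : Lt) : x + x = 0 := by
  obtain ⟨v, rfl⟩ := cl_surj x
  rw [← map_add, ← map_zero cl, cl_eq]; exact ⟨v, v.2, by simp [two_smul]⟩

/-- The action on classes. -/
def actLt (g : Co0) : Lt →+ Lt :=
  QuotientAddGroup.map twoL twoL (DistribSMul.toAddMonoidHom Lv g) fun v hv => by
    have := Cong.smul (w := 0) hv g
    rwa [smul_zero] at this

instance distribLt : DistribMulAction Co0 Lt where
  smul g := actLt g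
  one_smul x := by obtain ⟨v, rfl⟩ := cl_surj x; rfl
  mul_smul g h x := by obtain ⟨v, rfl⟩ := cl_surj x; rfl
  smul_zero g := map_zero (actLt g)
  smul_add g := map_add (actLt g)

theorem smul_cl (g : Co0) (v : Lv) : g • cl v = cl (g • v) := rfl

theorem mem_St_iff {g : Co0} {v : Lv} : g ∈ St v ↔ g • cl v = cl v := cl_eq.symm

theorem stab_cl (v : Lv) : MulAction.stabilizer Co0 (cl v) = St v := Subgroup.ext fun _ => cl_eq

theorem pj_eq_of_act {g h : Co0} (e : ∀ x : Lt, g • x = h • x) : pj g = pj h := by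
  rw [← inv_mul_eq_one, ← map_inv, ← map_mul, pj_eq_one]
  exact kernel_mod_two fun v => cl_eq.1 (by rw [← smul_cl, mul_smul, ← e, inv_smul_smul])

theorem act_of_pj {g h : Co0} (e : pj g = pj h) (x : Lt) : g • x = h • x := by
  obtain ⟨v, rfl⟩ := cl_surj x; exact cl_eq.2 (cong_of_pj e v)

/-- A basis of the lattice. -/
def bL : List (List ℤ) := [
  [8, 0, 0, 0, 0, 0, 0, 0, 0, 0, 0, 0, 0, 0, 0, 0, 0, 0, 0, 0, 0, 0, 0, 0],
  [-4, 4, 0, 0, 0, 0, 0, 0, 0, 0, 0, 0, 0, 0, 0, 0, 0, 0, 0, 0, 0, 0, 0, 0],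
  [-4, 0, 4, 0, 0, 0, 0, 0, 0, 0, 0, 0, 0, 0, 0, 0, 0, 0, 0, 0, 0, 0, 0, 0],
  [-4, 0, 0, 4, 0, 0, 0, 0, 0, 0, 0, 0, 0, 0, 0, 0, 0, 0, 0, 0, 0, 0, 0, 0],
  [-4, 0, 0, 0, 4, 0, 0, 0, 0, 0, 0, 0, 0, 0, 0, 0, 0, 0, 0, 0, 0, 0, 0, 0],
  [-4, 0, 0, 0, 0, 4, 0, 0, 0, 0, 0, 0, 0, 0, 0, 0, 0, 0, 0, 0, 0, 0, 0, 0],
  [-4, 0, 0, 0, 0, 0, 4, 0, 0, 0, 0, 0, 0, 0, 0, 0, 0, 0, 0, 0, 0, 0, 0, 0],
  [-4, 0, 0, 0, 0, 0, 0, 4, 0, 0, 0, 0, 0, 0, 0, 0, 0, 0, 0, 0, 0, 0, 0, 0],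
  [-4, 0, 0, 0, 0, 0, 0, 0, 4, 0, 0, 0, 0, 0, 0, 0, 0, 0, 0, 0, 0, 0, 0, 0],
  [-4, 0, 0, 0, 0, 0, 0, 0, 0, 4, 0, 0, 0, 0, 0, 0, 0, 0, 0, 0, 0, 0, 0, 0],
  [-4, 0, 0, 0, 0, 0, 0, 0, 0, 0, 4, 0, 0, 0, 0, 0, 0, 0, 0, 0, 0, 0, 0, 0],
  [-4, 0, 0, 0, 0, 0, 0, 0, 0, 0, 0, 4, 0, 0, 0, 0, 0, 0, 0, 0, 0, 0, 0, 0],
  [10, -2, -2, -2, -2, 0, 0, -2, 0, 0, -2, 0, 2, 0, 0, 0, 0, 0, 0, 0, 0, 0, 0, 0],
  [12, -2, -2, -2, -2, -2, 0, 0, -2, 0, 0, -2, 0, 2, 0, 0, 0, 0, 0, 0, 0, 0, 0, 0],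
  [10, -2, 0, 0, 0, -2, -2, -2, 0, -2, -2, 0, 0, 0, 2, 0, 0, 0, 0, 0, 0, 0, 0, 0],
  [12, -2, -2, 0, 0, 0, -2, -2, -2, 0, -2, -2, 0, 0, 0, 2, 0, 0, 0, 0, 0, 0, 0, 0],
  [10, -2, 0, 0, -2, 0, 0, 0, -2, -2, -2, -2, 0, 0, 0, 0, 2, 0, 0, 0, 0, 0, 0, 0],
  [10, 0, 0, -2, -2, -2, 0, -2, 0, -2, 0, -2, 0, 0, 0, 0, 0, 2, 0, 0, 0, 0, 0, 0],
  [10, 0, -2, -2, 0, -2, -2, -2, -2, 0, 0, 0, 0, 0, 0, 0, 0, 0, 2, 0, 0, 0, 0, 0],
  [12, -2, 0, -2, -2, 0, -2, -2, -2, -2, 0, 0, 0, 0, 0, 0, 0, 0, 0, 2, 0, 0, 0, 0],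
  [12, 0, -2, 0, -2, -2, 0, -2, -2, -2, -2, 0, 0, 0, 0, 0, 0, 0, 0, 0, 2, 0, 0, 0],
  [12, 0, 0, -2, 0, -2, -2, 0, -2, -2, -2, -2, 0, 0, 0, 0, 0, 0, 0, 0, 0, 2, 0, 0],
  [10, -2, -2, -2, 0, 0, -2, 0, 0, -2, 0, -2, 0, 0, 0, 0, 0, 0, 0, 0, 0, 0, 2, 0],
  [-51, 7, 5, 7, 5, 5, 5, 7, 7, 7, 5, 5, -1, -1, -1, -1, -1, -1, -1, -1, -1, -1, -1, 1]]
/-- The dual basis. -/
def dL : List (List ℤ) := [
  [1, 1, 1, 1, 1, 1, 1, 1, 1, 1, 1, 1, 1, 1, 1, 1, 1, 1, 1, 1, 1, 1, 1, -3],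
  [0, 2, 0, 0, 0, 0, 0, 0, 0, 0, 0, 0, 2, 2, 2, 2, 2, 0, 0, 2, 0, 0, 2, 0],
  [0, 0, 2, 0, 0, 0, 0, 0, 0, 0, 0, 0, 2, 2, 0, 2, 0, 0, 2, 0, 2, 0, 2, 2],
  [0, 0, 0, 2, 0, 0, 0, 0, 0, 0, 0, 0, 2, 2, 0, 0, 0, 2, 2, 2, 0, 2, 2, 0],
  [0, 0, 0, 0, 2, 0, 0, 0, 0, 0, 0, 0, 2, 2, 0, 0, 2, 2, 0, 2, 2, 0, 0, 2],
  [0, 0, 0, 0, 0, 2, 0, 0, 0, 0, 0, 0, 0, 2, 2, 0, 0, 2, 2, 0, 2, 2, 0, 2],
  [0, 0, 0, 0, 0, 0, 2, 0, 0, 0, 0, 0, 0, 0, 2, 2, 0, 0, 2, 2, 0, 2, 2, 2],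
  [0, 0, 0, 0, 0, 0, 0, 2, 0, 0, 0, 0, 2, 0, 2, 2, 0, 2, 2, 2, 2, 0, 0, 0],
  [0, 0, 0, 0, 0, 0, 0, 0, 2, 0, 0, 0, 0, 2, 0, 2, 2, 0, 2, 2, 2, 2, 0, 0],
  [0, 0, 0, 0, 0, 0, 0, 0, 0, 2, 0, 0, 0, 0, 2, 0, 2, 2, 0, 2, 2, 2, 2, 0],
  [0, 0, 0, 0, 0, 0, 0, 0, 0, 0, 2, 0, 2, 0, 2, 2, 2, 0, 0, 0, 2, 2, 0, 2],
  [0, 0, 0, 0, 0, 0, 0, 0, 0, 0, 0, 2, 0, 2, 0, 2, 2, 2, 0, 0, 0, 2, 2, 2],
  [0, 0, 0, 0, 0, 0, 0, 0, 0, 0, 0, 0, 4, 0, 0, 0, 0, 0, 0, 0, 0, 0, 0, 4],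
  [0, 0, 0, 0, 0, 0, 0, 0, 0, 0, 0, 0, 0, 4, 0, 0, 0, 0, 0, 0, 0, 0, 0, 4],
  [0, 0, 0, 0, 0, 0, 0, 0, 0, 0, 0, 0, 0, 0, 4, 0, 0, 0, 0, 0, 0, 0, 0, 4],
  [0, 0, 0, 0, 0, 0, 0, 0, 0, 0, 0, 0, 0, 0, 0, 4, 0, 0, 0, 0, 0, 0, 0, 4],
  [0, 0, 0, 0, 0, 0, 0, 0, 0, 0, 0, 0, 0, 0, 0, 0, 4, 0, 0, 0, 0, 0, 0, 4],
  [0, 0, 0, 0, 0, 0, 0, 0, 0, 0, 0, 0, 0, 0, 0, 0, 0, 4, 0, 0, 0, 0, 0, 4],
  [0, 0, 0, 0, 0, 0, 0, 0, 0, 0, 0, 0, 0, 0, 0, 0, 0, 0, 4, 0, 0, 0, 0, 4],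
  [0, 0, 0, 0, 0, 0, 0, 0, 0, 0, 0, 0, 0, 0, 0, 0, 0, 0, 0, 4, 0, 0, 0, 4],
  [0, 0, 0, 0, 0, 0, 0, 0, 0, 0, 0, 0, 0, 0, 0, 0, 0, 0, 0, 0, 4, 0, 0, 4],
  [0, 0, 0, 0, 0, 0, 0, 0, 0, 0, 0, 0, 0, 0, 0, 0, 0, 0, 0, 0, 0, 4, 0, 4],
  [0, 0, 0, 0, 0, 0, 0, 0, 0, 0, 0, 0, 0, 0, 0, 0, 0, 0, 0, 0, 0, 0, 4, 4],
  [0, 0, 0, 0, 0, 0, 0, 0, 0, 0, 0, 0, 0, 0, 0, 0, 0, 0, 0, 0, 0, 0, 0, 8]]

theorem vec_getD_mem {L : List (List ℤ)} (h : ∀ l ∈ L, InL (vec l)) (j : ℕ) :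
    vec (L.getD j []) ∈ leechLattice := by
  rcases lt_or_ge j L.length with hj | hj
  · rw [List.getD_eq_getElem _ _ hj]; exact inL_iff.1 (h _ (List.getElem_mem hj))
  · rw [List.getD_eq_default _ _ hj]; exact zero_mem _

/-- Basis vectors. -/
def bv (j : ℕ) : Lv := ⟨vec (bL.getD j []), vec_getD_mem (by decide +kernel) j⟩
/-- Dual basis vectors. -/
def dv (j : ℕ) : Lv := ⟨vec (dL.getD j []), vec_getD_mem (by decide +kernel) j⟩

theorem bv_dv : ∀ i j : GolayPt, ∑ k ∈ range 24, (bv k).1 i * (dv k).1 j = if i = j then 8 else 0 := by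
  decide +kernel

theorem cong_zero_of_dv {v : Lv} (h : ∀ k < 24, 16 ∣ dotInt v.1 (dv k).1) : Cong v.1 0 := by
  choose! a ha using h
  refine cong_of (∑ k ∈ range 24, a k • bv k).2 fun i => ?_
  have : 8 * v.1 i = ∑ k ∈ range 24, (bv k).1 i * dotInt v.1 (dv k).1 := by
    simp only [dotInt, mul_sum]
    rw [sum_comm]
    simp only [mul_left_comm _ (v.1 _), ← mul_sum, bv_dv]
    simp [mul_comm, -Fintype.sum_option]
  rw [sum_congr rfl fun k hk => by rw [ha k (mem_range.1 hk)]] at this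
  simp only [AddSubmonoidClass.coe_finset_sum, AddSubgroupClass.coe_zsmul, Finset.sum_apply,
    Pi.smul_apply, smul_eq_mul, Pi.zero_apply]
  have h2 : ∑ k ∈ range 24, (bv k).1 i * (16 * a k) = 16 * ∑ k ∈ range 24, a k * (bv k).1 i := by
    rw [mul_sum]; exact sum_congr rfl fun k _ => by ring
  omega

/-- The code of a lattice vector. -/
noncomputable def cd (v : Lv) : ℕ := orAll 24 fun k => if 16 ∣ dotInt v.1 (dv k).1 then 0 else 2 ^ k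

theorem testBit_cd (v : Lv) (k : ℕ) :
    (cd v).testBit k = true ↔ k < 24 ∧ ¬ 16 ∣ dotInt v.1 (dv k).1 := by
  rw [cd, testBit_orAll]
  constructor
  · rintro ⟨i, hi, h⟩
    split_ifs at h with h1
    · simp at h
    · rw [Nat.testBit_two_pow, decide_eq_true_iff] at h; subst h; exact ⟨hi, h1⟩
  · rintro ⟨h1, h2⟩; exact ⟨k, h1, by simp [h2]⟩

theorem cd_lt (v : Lv) : cd v < 2 ^ 24 := Nat.lt_pow_two_of_testBit _ fun k hk => by
  rw [← Bool.not_eq_true, testBit_cd]; omega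

theorem cd_add (v w : Lv) : cd (v + w) = cd v ^^^ cd w := Nat.eq_of_testBit_eq fun k => by
  have h1 := eight_dvd_dot v.2 (dv k).2
  have h2 := eight_dvd_dot w.2 (dv k).2
  have h3 := testBit_cd v k
  have h4 := testBit_cd w k
  rw [Bool.eq_iff_iff, testBit_cd, Nat.testBit_xor, AddSubgroup.coe_add, add_dot]
  revert h3 h4
  cases (cd v).testBit k <;> cases (cd w).testBit k <;> simp <;> omega

theorem cd_eq {v w : Lv} : cd v = cd w ↔ Cong v.1 w.1 := by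
  constructor
  · intro h
    have := cong_zero_of_dv (v := v + w) fun k hk => by
      by_contra h1
      have := (testBit_cd _ k).2 ⟨hk, h1⟩
      rw [cd_add, h, Nat.xor_self] at this
      simp at this
    have h2 : cl (v + w) = cl 0 := cl_eq.2 this
    rw [map_add, map_zero, ← Lt_add_self (cl w), add_left_inj] at h2
    exact cl_eq.1 h2
  · intro h
    refine Nat.eq_of_testBit_eq fun k => ?_
    have := h.dot_mod (dv k).2
    rw [Bool.eq_iff_iff, testBit_cd, testBit_cd]; omega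

/-- The code of a class. -/
noncomputable def cdx (x : Lt) : ℕ := Quotient.liftOn' x cd fun v w h =>
  cd_eq.2 (cl_eq.1 (Quotient.sound' h))

theorem cdx_cl (v : Lv) : cdx (cl v) = cd v := rfl

theorem cdx_inj : Function.Injective cdx := fun x y h => by
  obtain ⟨v, rfl⟩ := cl_surj x; obtain ⟨w, rfl⟩ := cl_surj y; exact cl_eq.2 (cd_eq.1 h)

theorem cdx_lt (x : Lt) : cdx x < 2 ^ 24 := by obtain ⟨v, rfl⟩ := cl_surj x; exact cd_lt v

theorem cdx_add (x y : Lt) : cdx (x + y) = cdx x ^^^ cdx y := by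
  obtain ⟨v, rfl⟩ := cl_surj x; obtain ⟨w, rfl⟩ := cl_surj y; exact cd_add v w

theorem cdx_zero : cdx 0 = 0 := by rw [← Lt_add_self 0, cdx_add, Nat.xor_self]

/-! ### Computing codes -/

/-- Entry of a vector packed modulo 16. -/
def a4 (n i : ℕ) : ℕ := Nat.land (Nat.shiftRight n (Nat.mul (nat_lit 4) i)) (nat_lit 15)

/-- `n` packs the coordinates of `v` modulo 16. -/
def Rep (v : GolayPt → ℤ) (n : ℕ) : Prop := ∀ p, (a4 n (idx p) : ℤ) % 16 = v p % 16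

instance decRep (v : GolayPt → ℤ) (n : ℕ) : Decidable (Rep v n) := by unfold Rep; infer_instance

/-- Inner product of packed vectors. -/
noncomputable def ndot (n m : ℕ) : ℕ :=
  Nat.rec (motive := fun _ => ℕ) (nat_lit 0) (fun i acc => Nat.add acc (Nat.mul (a4 n i) (a4 m i)))
    (nat_lit 24)

theorem sum_idx {M : Type*} [AddCommMonoid M] (f : ℕ → M) : ∑ p, f (idx p) = ∑ i ∈ range 24, f i :=
  sum_nbij idx (fun p _ => mem_range.2 (idx_lt p)) idx_inj.injOn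
    (fun i hi => ⟨pt i, mem_univ _, idx_pt (by simpa using hi)⟩) fun _ _ => rfl

theorem ndot_eq (n m : ℕ) : ndot n m = ∑ i ∈ range 24, a4 n i * a4 m i := by
  simp only [sum_range_succ, range_zero, sum_empty]; rfl

theorem ndot_mod {v w : GolayPt → ℤ} {n m : ℕ} (hv : Rep v n) (hw : Rep w m) :
    (ndot n m : ℤ) % 16 = dotInt v w % 16 := by
  rw [ndot_eq, ← sum_idx fun i => a4 n i * a4 m i, dotInt, Nat.cast_sum, sum_int_mod,
    sum_int_mod _ _ fun i => v i * w i]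
  congr 1
  exact sum_congr rfl fun p _ => by rw [Nat.cast_mul, Int.mul_emod, hv, hw, ← Int.mul_emod]

/-- Row of a table of packed vectors. -/
def a96 (t k : ℕ) : ℕ :=
  Nat.land (Nat.shiftRight t (Nat.mul (nat_lit 96) k)) (nat_lit 0xffffffffffffffffffffffff)

/-- The packed dual basis. -/
def dT : ℕ := nat_lit 0x800000000000000000000000440000000000000000000000404000000000000000000000400400000000000000000000400040000000000000000000400004000000000000000000400000400000000000000000400000040000000000000000400000004000000000000000400000000400000000000000400000000040000000000000400000000004000000000000222000222020200000000000202200022202020000000000022220220200002000000000002222022020000200000000000222202202000020000000222022002200000002000000202202200220000000200000200220220022000000020000022022200022000000002000220202002022000000000200020020022222000000000020d11111111111111111111111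
/-- The packed basis. -/
def bT : ℕ := nat_lit 0x1fffffffffff55777555757d020000000000e0e00e00eeea002000000000eeee0ee0e00c0002000000000eeee0ee0e0c00002000000000eeee0ee0ec000002000000000eeee0ee0a000000200000e0e0e0eee00a000000020000eeee000e00ea000000002000ee0eee000eec0000000002000ee0eee000ea000000000020e00e00eeeeec0000000000020e00e00eeeea00000000000040000000000c00000000000004000000000c00000000000000400000000c00000000000000040000000c00000000000000004000000c00000000000000000400000c00000000000000000040000c00000000000000000004000c00000000000000000000400c00000000000000000000040c00000000000000000000004c000000000000000000000008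

theorem rep_dv : ∀ k < 24, Rep (dv k).1 (a96 dT k) := by decide +kernel
theorem rep_bv : ∀ k < 24, Rep (bv k).1 (a96 bT k) := by decide +kernel

/-- The code of a packed vector. -/
noncomputable def cdN (n : ℕ) : ℕ := orAll (nat_lit 24) fun k => force (a96 dT k) fun m =>
  Nat.shiftLeft (Nat.land (Nat.shiftRight (ndot n m) (nat_lit 3)) (nat_lit 1)) k

theorem cd_of_rep {v : Lv} {n : ℕ} (h : Rep v.1 n) : cd v = cdN n := by
  have : ∀ k < 24, (if 16 ∣ dotInt v.1 (dv k).1 then 0 else 2 ^ k) = force (a96 dT k) fun m =>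
      Nat.shiftLeft (Nat.land (Nat.shiftRight (ndot n m) (nat_lit 3)) (nat_lit 1)) k := fun k hk => by
    have h1 := ndot_mod h (rep_dv k hk)
    have h2 := eight_dvd_dot v.2 (dv k).2
    rw [force_eq]
    change _ = (ndot n (a96 dT k) >>> 3 &&& 1) <<< k
    rw [Nat.shiftLeft_eq, Nat.and_one_is_mod, Nat.shiftRight_eq_div_pow]
    split_ifs with h3
    · rw [show ndot n (a96 dT k) / 2 ^ 3 % 2 = 0 by omega, zero_mul]
    · rw [show ndot n (a96 dT k) / 2 ^ 3 % 2 = 1 by omega, one_mul]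
  exact orAll_congr (fun i hi => ⟨i, hi, this i hi⟩) fun i hi => ⟨i, hi, this i hi⟩

theorem cd_bv {j : ℕ} (hj : j < 24) : cd (bv j) = 2 ^ j := by
  rw [cd_of_rep (rep_bv j hj)]; revert j; decide +kernel

theorem exists_cdx {m : ℕ} (hm : m < 2 ^ 24) : ∃ x, cdx x = m :=
  bits_induction (P := fun m => ∃ x, cdx x = m) ⟨0, cdx_zero⟩ (fun i hi => ⟨cl (bv i), cd_bv hi⟩)
    (fun _ _ _ _ ⟨x, hx⟩ ⟨y, hy⟩ => ⟨x + y, by rw [cdx_add, hx, hy]⟩) m hm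

/-- The class with a given code. -/
noncomputable def unx (m : ℕ) : Lt := by
  classical exact if h : m < 2 ^ 24 then (exists_cdx h).choose else 0

theorem cdx_unx {m : ℕ} (h : m < 2 ^ 24) : cdx (unx m) = m := by
  rw [unx, dif_pos h]; exact (exists_cdx h).choose_spec

theorem unx_cdx (x : Lt) : unx (cdx x) = x := cdx_inj (cdx_unx (cdx_lt x))

theorem Lt_induction {P : Lt → Prop} (h0 : P 0) (hb : ∀ j < 24, P (cl (bv j)))
    (ha : ∀ x y, P x → P y → P (x + y)) (x : Lt) : P x := by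
  refine bits_induction (P := fun m => ∀ x, cdx x = m → P x) (n := 24) (fun x hx => ?_)
    (fun i hi x hx => ?_) (fun a ha' b hb' h1 h2 x hx => ?_) _ (cdx_lt x) x rfl
  · rwa [cdx_inj (hx.trans cdx_zero.symm)]
  · rw [cdx_inj (show cdx x = cdx (cl (bv i)) from hx.trans (cd_bv hi).symm)]; exact hb i hi
  · rw [cdx_inj (hx.trans (by rw [cdx_add, cdx_unx ha', cdx_unx hb'] :
      cdx (unx a + unx b) = a ^^^ b).symm)]
    exact ha _ _ (h1 _ (cdx_unx ha')) (h2 _ (cdx_unx hb'))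

/-! ### Bit matrices -/

/-- Column of a bit matrix. -/
def col (M j : ℕ) : ℕ := Nat.land (Nat.shiftRight M (Nat.mul (nat_lit 24) j)) (nat_lit 0xffffff)

/-- Combination of the first `n` columns selected by the bits of `x`. -/
noncomputable def apn (n M x : ℕ) : ℕ :=
  Nat.rec (motive := fun _ => ℕ) (nat_lit 0) (fun j acc =>
    Nat.xor acc (Nat.mul (col M j) (Nat.land (Nat.shiftRight x j) (nat_lit 1)))) n

/-- Matrix times vector. -/
noncomputable def apm (M x : ℕ) : ℕ := apn (nat_lit 24) M x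

theorem apn_succ (n M x : ℕ) : apn (n + 1) M x = apn n M x ^^^ (col M n * ((x >>> n) &&& 1)) := rfl

theorem bit_eq (x n : ℕ) : (x >>> n) &&& 1 = if x.testBit n then 1 else 0 := by
  rw [Nat.and_one_is_mod, Nat.shiftRight_eq_div_pow, Nat.testBit_eq_decide_div_mod_eq]
  split_ifs with h <;> simp at h <;> omega

theorem apn_xor (n M x y : ℕ) : apn n M (x ^^^ y) = apn n M x ^^^ apn n M y := by
  induction n with
  | zero => exact (Nat.xor_self 0).symm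
  | succ n ih =>
    simp only [apn_succ, ih, bit_eq, Nat.testBit_xor]
    cases x.testBit n <;> cases y.testBit n <;>
      simp [Nat.xor_assoc, Nat.xor_left_comm, Nat.xor_comm]

theorem apn_zero (n M : ℕ) : apn n M 0 = 0 := by
  have := apn_xor n M 0 0
  rwa [Nat.xor_self, Nat.xor_self] at this

theorem apn_pow (n M j : ℕ) : apn n M (2 ^ j) = if j < n then col M j else 0 := by
  induction n with
  | zero => rfl
  | succ n ih =>
    rw [apn_succ, ih, bit_eq, Nat.testBit_two_pow]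
    rcases lt_trichotomy j n with h | rfl | h
    · simp [h, h.ne, h.le, Nat.lt_succ_iff]
    · simp
    · simp [h.ne', not_lt.2 h.le, Nat.lt_succ_iff, not_le.2 h]

/-- Matrix from its columns. -/
noncomputable def pk (f : ℕ → ℕ) : ℕ :=
  orAll (nat_lit 24) fun j => Nat.shiftLeft (f j) (Nat.mul (nat_lit 24) j)

theorem col_pk {f : ℕ → ℕ} (hf : ∀ j < 24, f j < 2 ^ 24) {j : ℕ} (hj : j < 24) : col (pk f) j = f j :=
  apw_pack (w := 24) (mk := 0xffffff) (by norm_num) hf hj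

theorem pk_congr {f g : ℕ → ℕ} (h : ∀ j < 24, f j = g j) : pk f = pk g := pack_congr (w := 24) h

/-- The matrix of an automorphism on the lattice modulo two. -/
noncomputable def mat (g : Co0) : ℕ := pk fun j => cd (g • bv j)

theorem apm_mat (g : Co0) (x : Lt) : apm (mat g) (cdx x) = cdx (g • x) := by
  induction x using Lt_induction with
  | h0 => rw [smul_zero, cdx_zero, apm, apn_zero]
  | hb j hj =>
    rw [cdx_cl, cd_bv hj, apm, apn_pow, if_pos hj, mat, col_pk (fun _ _ => cd_lt _) hj]; rfl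
  | ha x y h1 h2 => rw [smul_add, cdx_add, cdx_add, ← h1, ← h2]; exact apn_xor _ _ _ _

theorem acL : AC mat (Set.univ : Set Lt) cdx apm :=
  ⟨fun _ _ _ => trivial, cdx_inj.injOn, fun g x _ => apm_mat g x⟩

/-- Product of bit matrices. -/
noncomputable def mulm (A B : ℕ) : ℕ := pk fun j => force (col B j) (apm A)

theorem mat_mul (g h : Co0) : mat (g * h) = mulm (mat g) (mat h) := pk_congr fun j hj => by
  rw [force_eq, mat, mat, col_pk (fun _ _ => cd_lt _) hj, ← mat, ← cdx_cl (h • _), apm_mat, mul_smul]; rfl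

theorem mat_eq {g h : Co0} : mat g = mat h ↔ pj g = pj h :=
  ⟨fun e => pj_eq_of_act fun x => cdx_inj (by rw [← apm_mat, ← apm_mat, e]),
    fun e => pk_congr fun _ _ => cd_eq.2 (cong_of_pj e _)⟩

/-- The identity matrix. -/
def onem : ℕ := nat_lit 0x800000400000200000100000080000040000020000010000008000004000002000001000000800000400000200000100000080000040000020000010000008000004000002000001

theorem mat_one : mat 1 = onem :=
  (pk_congr (g := fun j => 2 ^ j) fun j hj => by rw [one_smul, cd_bv hj]).trans (by decide +kernel)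

/-- Pack 24 entries of four bits. -/
noncomputable def pk4 (f : ℕ → ℕ) : ℕ :=
  orAll (nat_lit 24) fun j => Nat.shiftLeft (f j) (Nat.mul (nat_lit 4) j)

theorem a4_pk4 {f : ℕ → ℕ} (hf : ∀ j < 24, f j < 2 ^ 4) {j : ℕ} (hj : j < 24) : a4 (pk4 f) j = f j :=
  apw_pack (w := 4) (mk := 15) (by norm_num) hf hj

theorem a4_lt (n i : ℕ) : a4 n i < 2 ^ 4 := apw_lt (w := 4) (mk := 15) (by norm_num) n i

/-- Sign change of a packed vector. -/
noncomputable def sgN (m n : ℕ) : ℕ := pk4 fun i => Nat.land (Nat.mul (a4 n i)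
  (Nat.succ (Nat.mul (nat_lit 14) (Nat.land (Nat.shiftRight m i) (nat_lit 1))))) (nat_lit 15)

theorem Rep.sg {v : GolayPt → ℤ} {n : ℕ} (h : Rep v n) (m : ℕ) : Rep (sgnF (unmask m) v) (sgN m n) :=
  fun p => by
  rw [sgN, a4_pk4 (fun _ _ => by exact Nat.and_lt_two_pow (n := 4) _ (by norm_num)) (idx_lt p)]
  change ((a4 n (idx p) * (14 * ((m >>> idx p) &&& 1) + 1) &&& 15 : ℕ) : ℤ) % 16 = _
  have := h p
  rw [show 15 = 2 ^ 4 - 1 from rfl, Nat.and_two_pow_sub_one_eq_mod, bit_eq, sgnF]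
  simp only [mem_unmask]
  split_ifs <;> push_cast <;> omega

/-- Coordinate permutation of a packed vector (`q` codes the inverse permutation). -/
noncomputable def prN (q n : ℕ) : ℕ := pk4 fun i => a4 n (ap q i)

theorem Rep.pr {v : Lv} {n : ℕ} (h : Rep v.1 n) (σ : M24) :
    Rep (prm σ • v).1 (prN (inv (mcode σ)) n) := fun p => by
  rw [prN, a4_pk4 (fun _ _ => a4_lt _ _) (idx_lt p), ← gcM.code_inv, acM.ap_code _ trivial, h]; rfl

/-- The matrix of a sign change. -/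
noncomputable def matS (m : ℕ) : ℕ := pk fun j => force (a96 bT j) fun n => force (sgN m n) cdN

theorem mat_sgn {m : ℕ} (h : IsCw (unmask m)) : mat (sgn (unmask m)) = matS m :=
  pk_congr fun j hj => by
    rw [force_eq, force_eq]; exact cd_of_rep (by rw [sgn_smul h]; exact (rep_bv j hj).sg m)

/-- The matrix of a coordinate permutation. -/
noncomputable def matP (p : ℕ) : ℕ := force (inv p) fun q =>
  pk fun j => force (a96 bT j) fun n => force (prN q n) cdN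

theorem mat_prm (σ : M24) : mat (prm σ) = matP (mcode σ) := by
  rw [matP, force_eq]
  exact pk_congr fun j hj => by rw [force_eq, force_eq]; exact cd_of_rep ((rep_bv j hj).pr σ)

/-- Images of the basis under the extra automorphism. -/
def xL : List (List ℤ) := [
  [-4, 4, 4, 0, 0, 0, 0, 0, 0, 0, 0, 0, 0, 0, 0, 0, 0, 0, 0, 0, 0, 0, 0, 4],
  [4, -4, 0, 0, 0, 0, 0, 0, 0, 0, 0, 0, 0, 0, 0, 0, 0, 0, 0, 0, 0, 0, 0, 0],
  [4, 0, -4, 0, 0, 0, 0, 0, 0, 0, 0, 0, 0, 0, 0, 0, 0, 0, 0, 0, 0, 0, 0, 0],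
  [2, -2, -2, 2, 0, -2, 0, 0, 0, 0, 0, 0, 0, 0, -2, 0, 0, -2, 0, 0, 0, 0, 0, -2],
  [2, -2, -2, 0, 2, 0, 0, 0, 0, 0, 0, 0, 0, -2, 0, 0, -2, 0, 0, 0, 0, 0, -2, -2],
  [2, -2, -2, -2, 0, 2, 0, 0, 0, 0, 0, 0, 0, 0, -2, 0, 0, -2, 0, 0, 0, 0, 0, -2],
  [2, -2, -2, 0, 0, 0, 2, -2, 0, 0, 0, 0, 0, 0, 0, 0, 0, 0, 0, -2, 0, -2, 0, -2],
  [2, -2, -2, 0, 0, 0, -2, 2, 0, 0, 0, 0, 0, 0, 0, 0, 0, 0, 0, -2, 0, -2, 0, -2],
  [2, -2, -2, 0, 0, 0, 0, 0, 2, 0, 0, -2, -2, 0, 0, 0, 0, 0, -2, 0, 0, 0, 0, -2],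
  [2, -2, -2, 0, 0, 0, 0, 0, 0, 2, -2, 0, 0, 0, 0, -2, 0, 0, 0, 0, -2, 0, 0, -2],
  [2, -2, -2, 0, 0, 0, 0, 0, 0, -2, 2, 0, 0, 0, 0, -2, 0, 0, 0, 0, -2, 0, 0, -2],
  [2, -2, -2, 0, 0, 0, 0, 0, -2, 0, 0, 2, -2, 0, 0, 0, 0, 0, -2, 0, 0, 0, 0, -2],
  [-7, 5, 5, -1, -1, 1, 1, -1, -1, 1, -1, -1, 1, 1, 1, 1, 1, 1, -1, 1, 1, 1, 1, 3],
  [-8, 6, 6, 0, -2, 0, 0, 0, 0, 0, 0, 0, 2, 2, 2, 0, 0, 2, 2, 0, 0, 0, 0, 4],
  [-6, 6, 4, 0, 0, -2, 0, 0, 0, 0, 0, 0, 0, 0, 2, 2, 0, 0, 0, 2, 2, 2, 0, 4],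
  [-8, 6, 6, 0, 0, 0, 0, 0, 0, 0, -2, 0, 2, 0, 0, 2, 0, 0, 2, 2, 0, 2, 0, 4],
  [-6, 6, 4, 0, -2, 0, 0, 0, 0, 0, 0, 0, 2, 0, 0, 2, 2, 0, 2, 0, 2, 0, 0, 4],
  [-5, 5, 5, -1, -1, -1, 1, -1, 1, -1, 1, -1, 1, 1, 1, 1, 1, 3, 1, 1, 1, 1, 1, 5],
  [-6, 4, 6, 0, 0, 0, 0, 0, -2, 0, 0, 0, 0, 0, 2, 0, 0, 2, 2, 2, 0, 2, 0, 4],
  [-7, 7, 5, -1, -1, 1, -1, -1, -1, -1, 1, 1, 1, 1, 1, 1, 1, 1, 1, 3, 1, 1, 1, 5],
  [-7, 5, 7, 1, -1, -1, 1, -1, -1, -1, -1, 1, 1, 1, 1, 1, 1, 1, 1, 1, 3, 1, 1, 5],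
  [-6, 6, 6, 0, 0, 0, -2, 0, 0, 0, 0, 0, 2, 0, 2, 2, 0, 2, 2, 0, 2, 2, 0, 6],
  [-7, 5, 5, -1, -1, 1, -1, 1, 1, -1, 1, -1, 1, -1, 1, 1, -1, 1, 1, 1, 1, 1, 1, 3],
  [32, -26, -24, 2, 4, 0, 0, 2, 2, 2, 0, 0, -6, -2, -6, -6, -2, -6, -6, -6, -6, -6, -2, -20]]

/-- The matrix of the extra automorphism. -/
def matX : ℕ := nat_lit 0x7ffc70812b1c4928d6effc76f7fc702e4164fdfc7215960a2c924238c44e06732284018e7be5fa6f7ff26f79f27becfa57ff3e57fffe7dbefe3ed7787dbed6000004000002000c73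

theorem mat_xi : mat xi = matX := by
  have h1 : ∀ j < 24, ∀ i, 2 * vec (xL.getD j []) i = mv xiM (bv j).1 i := by decide +kernel
  have h2 : ∀ j < 24, Rep (vec (xL.getD j [])) (a96 (nat_lit 0xceaaaaaeaaea0022200428603111111f11f1f1f11f1ff55960220220220200000e00066a5113111111111ffff1ff175951113111111111ffff1ff579402022200200000e0000064a511111311111f1f1f1fff55b4002020220020000000e046a4020220020020e0000000668402220002200000000e0046a4000022002220000000e066831111f111111ff1ff11ff559e0000e00000e200e00000ee2e00e0000e00002e000000ee2e00e0000e0000e2000000ee2e0000e00000ee00200000ee2e0e0e000000000002e000ee2e0e0e00000000000e2000ee2e00000e00e0000000020eee2ee00000e00e0000000020ee2e00000e00e00000000e02ee2000000000000000000000c040000000000000000000000c440000000000000000000044c) j) := by decide +kernel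
  refine (pk_congr fun j hj => cd_of_rep (by rw [xi_vec _ (h1 j hj)]; exact h2 j hj)).trans ?_
  decide +kernel

theorem cdx_e8 : cdx (cl (e8 none)) = 1 := by
  rw [cdx_cl, cd_of_rep (n := 8 * 2 ^ 92) (by decide +kernel)]; decide +kernel

end Cfsg.Agent.Leech
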