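import Cfsg.Agent.Leech.Quad
import Cfsg.Agent.PG.Basic
import Cfsg.Agent.GT.Notation

/-! # Normal 2-subgroups of the monomial group and of the stabiliser of a short vector -/

set_option autoImplicit false

namespace Cfsg.Agent.Leech

open Finset Cfsg.Agent.M24 Cfsg.Spor Cfsg.Agent.GT
open scoped symmDiff Pointwise

instance finiteCo0 : Finite Co0 := by
  have : Finite {x : GolayPt → ℤ | sqNorm x = 64} := finite_norm 64
  exact Finite.of_injective (fun (g : Co0) (i : GolayPt) => (⟨(g • e8 i).1, (norm_smul _ _).trans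
    (norm_e8 i)⟩ : {x : GolayPt → ℤ | sqNorm x = 64})) fun g h e =>
      ext8 fun i => Subtype.ext (Subtype.mk.inj (congrFun e i))

theorem fixed_of_odd {H X : Type*} [Group H] [MulAction H X] {B : Subgroup H} (hB : IsPGroup 2 B)
    {D : Set X} (hD : ∀ g ∈ B, ∀ x ∈ D, g • x ∈ D) (hodd : Odd D.ncard) :
    ∃ x ∈ D, ∀ g ∈ B, g • x = x := by
  let S : SubMulAction B X := ⟨D, fun g _ hx => hD g g.2 _ hx⟩
  obtain ⟨x, hx⟩ := hB.nonempty_fixed_point_of_prime_not_dvd_card S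
    (show ¬ 2 ∣ D.ncard from hodd.not_two_dvd_nat)
  exact ⟨x, x.2, fun g hg => congrArg Subtype.val (hx ⟨g, hg⟩)⟩

theorem tuple4 {a b c d a' b' c' d' : GolayPt} (h : [a, b, c, d].Nodup) (h' : [a', b', c', d'].Nodup) :
    ∃ σ : M24, σ.1 a = a' ∧ σ.1 b = b' ∧ σ.1 c = c' ∧ σ.1 d = d' := by
  obtain ⟨g, hg, e⟩ := trans_tuples (ι := Fin 4) (by simp) (x := [a, b, c, d].get)
    (y := [a', b', c', d'].get) (List.nodup_iff_injective_get.1 h) (List.nodup_iff_injective_get.1 h')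
  exact ⟨⟨g, hg⟩, e 0, e 1, e 2, e 3⟩

theorem tuple2 {a b a' b' : GolayPt} (h : a ≠ b) (h' : a' ≠ b') :
    ∃ σ : M24, σ.1 a = a' ∧ σ.1 b = b' := by
  obtain ⟨g, hg, e⟩ := trans_tuples (ι := Fin 2) (by simp) (x := [a, b].get)
    (y := [a', b'].get) (List.nodup_iff_injective_get.1 (by simpa))
    (List.nodup_iff_injective_get.1 (by simpa))
  exact ⟨⟨g, hg⟩, e 0, e 1⟩

theorem mem_smul_iff' (σ : Equiv.Perm GolayPt) (c : Finset GolayPt) (a : GolayPt) :
    σ a ∈ σ • c ↔ a ∈ c := smul_mem_smul_finset_iff σ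

theorem mem_O0 {i : GolayPt} : i ∈ O0 ↔ (8536111 : ℕ).testBit (idx i) = true := by
  rw [eq_unmask mask_O0, mem_unmask]

theorem O2_M24 {D : Subgroup M24} [hn : D.Normal] (hD : IsPGroup 2 D) : D = ⊥ := by
  obtain ⟨o, ho, h⟩ := fixed_of_odd hD (D := octads) (fun g _ x hx => octad_smul hx g.2)
    (by rw [ncard_octads]; decide)
  refine (Subgroup.eq_bot_iff_forall _).2 fun d hd => Subtype.ext (Equiv.ext fun p => ?_)
  by_contra hp
  obtain ⟨σ, h1, h2⟩ := tuple2 (a := none) (b := pt 4) (a' := p) (b' := d.1 p) (by decide)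
    (fun h => hp h.symm)
  obtain ⟨τ, hτ, e⟩ := trans_octads ho (octad_smul O0_mem σ.2)
  have h3 := h _ (hn.conj_mem' d hd ⟨τ, hτ⟩)
  have h4 : d.1 • σ.1 • O0 = σ.1 • O0 := by
    rw [← e, ← mul_smul, ← inv_smul_eq_iff, ← mul_smul, ← mul_assoc]
    exact h3.symm ▸ rfl
  have h5 : d.1 p ∈ d.1 • σ.1 • O0 := by
    rw [mem_smul_iff', ← h1, mem_smul_iff', mem_O0]; decide
  rw [h4, ← h2, mem_smul_iff', mem_O0] at h5
  exact absurd h5 (by decide)

theorem eq_one_of_fix22 {σ : M24} (h : ∀ p, p ≠ none → p ≠ some 0 → σ.1 p = p) : σ = 1 := by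
  obtain ⟨τ, h1, h2⟩ := tuple2 (a := pt 6) (b := pt 7) (a' := none) (b' := some 0) (by decide)
    (by decide)
  have := fix7 (τ⁻¹ * σ * τ).2 fun a ha => by
    have h3 : a ≠ pt 6 ∧ a ≠ pt 7 := by revert a; decide +kernel
    have := h (τ.1 a) (by rw [← h1]; exact τ.1.injective.ne h3.1) (by rw [← h2]; exact τ.1.injective.ne h3.2)
    simp [this]
  have : τ⁻¹ * σ * τ = 1 := Subtype.ext this
  rwa [mul_assoc, inv_mul_eq_one, eq_comm, mul_eq_right] at this

/-- The group of sign changes. -/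
def Sg : Subgroup Co0 where
  carrier := {g | ∃ c, IsCw c ∧ g = sgn c}
  one_mem' := ⟨∅, isCw_empty, sgn_empty.symm⟩
  mul_mem' := by
    rintro _ _ ⟨c, hc, rfl⟩ ⟨d, hd, rfl⟩
    exact ⟨_, hc.symmDiff hd, (sgn_symmDiff hc hd).symm⟩
  inv_mem' := by rintro _ ⟨c, hc, rfl⟩; exact ⟨c, hc, sgn_inv c⟩

theorem Sg_le_Nm : Sg ≤ Nm := by rintro _ ⟨c, hc, rfl⟩; exact sgn_mem_Nm hc

theorem ng_mem_Sg : ng ∈ Sg := ⟨_, isCw_univ, rfl⟩

theorem Nm_le_norm_Sg : Nm ≤ N[Sg] := by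
  rintro _ ⟨c, σ, hc, rfl⟩
  refine mul_mem (Subgroup.le_normalizer (show sgn c ∈ Sg from ⟨c, hc, rfl⟩)) ?_
  refine mem_normalizer_of_conj_le (conj_le_iff_forall.2 ?_)
  rintro _ ⟨d, hd, rfl⟩
  exact ⟨_, hd.smul σ.2, prm_conj_sgn σ hd⟩

theorem card_Sg : Nat.card Sg = 4096 := by
  have : (Sg : Set Co0) = sgn '' {s | IsCw s ∧ True} := by
    ext g; exact ⟨fun ⟨c, hc, e⟩ => ⟨c, ⟨hc, trivial⟩, e.symm⟩, fun ⟨c, hc, e⟩ => ⟨c, hc.1, e.symm⟩⟩
  change Nat.card (Sg : Set Co0) = _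
  rw [this, Nat.card_coe_set_eq, Set.ncard_image_of_injOn fun c hc d hd => sgn_inj hc.1 hd.1,
    ncard_cw (f := fun _ => true) (by simp)]
  decide +kernel

/-- A normal 2-subgroup of the monomial group consists of sign changes. -/
theorem le_Sg {B : Subgroup Co0} (hB : IsPGroup 2 B) (h1 : B ≤ Nm) (h2 : Nm ≤ N[B]) : B ≤ Sg := by
  let D : Subgroup M24 := (B ⊔ Sg).comap prm
  have hn : Nm ≤ N[B ⊔ Sg] := le_norm_sup h2 Nm_le_norm_Sg
  have : D.Normal := ⟨fun n hn' g => by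
    simp only [D, Subgroup.mem_comap, map_mul, map_inv] at hn' ⊢
    exact conj_mem_of_mem_norm (hn (prm_mem_Nm g)) hn'⟩
  have hS : IsPGroup 2 Sg := PG.isPGroup_of_forall_pow (by
    rintro _ ⟨c, -, rfl⟩; rw [sq, sgn_mul_self])
  have hD : D = ⊥ := O2_M24 ((hB.to_sup_of_normal_right' hS (h1.trans Nm_le_norm_Sg)).comap_of_injective
    prm prm_injective)
  intro b hb
  obtain ⟨c, σ, hc, rfl⟩ := h1 hb
  have : σ ∈ D := by
    have := mul_mem (Subgroup.mem_sup_right (S := B) (show sgn c ∈ Sg from ⟨c, hc, rfl⟩))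
      (Subgroup.mem_sup_left (T := Sg) hb)
    rwa [← mul_assoc, sgn_mul_self, one_mul] at this
  rw [hD, Subgroup.mem_bot] at this
  exact ⟨c, hc, by rw [this, map_one, mul_one]⟩

theorem e8_of_comm {b : Co0} {p : GolayPt}
    (h : ∀ q ≠ p, ∃ c, IsCw c ∧ (p ∈ c ↔ q ∉ c) ∧ sgn c * b = b * sgn c) :
    b • e8 p = e8 p ∨ b • e8 p = -e8 p := by
  have h1 : ∀ q ≠ p, (b • e8 p).1 q = 0 := fun q hq => by
    obtain ⟨c, hc, h1, h2⟩ := h q hq
    have := congrArg (fun g : Co0 => (g • e8 p).1 q) h2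
    simp only [mul_smul, sgn_e8 hc, sgn_apply hc] at this
    by_cases hp : p ∈ c
    · rw [if_neg (h1.1 hp), if_pos hp, smul_neg] at this
      simp only [AddSubgroup.coe_neg, Pi.neg_apply] at this
      omega
    · rw [if_pos (not_not.1 (mt h1.2 hp)), if_neg hp] at this
      omega
  have hn := (norm_smul b (e8 p)).trans (norm_e8 p)
  rw [sqNorm, sum_eq_single p (fun j _ hj => by rw [h1 j hj]; simp) (by simp)] at hn
  rcases sq_eq_sq_iff_eq_or_eq_neg.1 (hn.trans (show (64 : ℤ) = 8 ^ 2 by norm_num)) with h2 | h2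
  · refine Or.inl (Subtype.ext (funext fun j => ?_))
    by_cases hj : j = p
    · subst hj; simp [h2, e8_apply]
    · simp [h1 j hj, e8_apply, hj]
  · refine Or.inr (Subtype.ext (funext fun j => ?_))
    by_cases hj : j = p
    · subst hj; simp [h2, e8_apply]
    · simp [h1 j hj, e8_apply, hj]

theorem mem_Nm_of_e8 {b : Co0} {p : GolayPt} (h : b • e8 p = e8 p ∨ b • e8 p = -e8 p) : b ∈ Nm := by
  refine mem_Nm_iff.2 ((((e8_cong none p).smul b).trans ?_).trans (e8_cong p none))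
  rcases h with h | h <;> rw [h]
  · exact Cong.refl _
  · exact cong_neg (e8 p).2

theorem sgn_U {c : Finset GolayPt} (hc : IsCw c) : sgn c • leechU = leechU ↔ none ∉ c ∧ some 0 ∉ c := by
  constructor
  · intro h
    constructor <;> intro h1
    · have := sgn_apply hc leechU none
      rw [h, if_pos h1] at this; exact absurd this (by decide)
    · have := sgn_apply hc leechU (some 0)
      rw [h, if_pos h1] at this; exact absurd this (by decide)
  · rintro ⟨h1, h2⟩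
    refine Subtype.ext (funext fun i => ?_)
    rw [sgn_apply hc]
    split_ifs with h
    · have : ¬ (i = none ∨ i = some 0) := by rintro (rfl | rfl) <;> contradiction
      simp [leechU, vecU, this]
    · rfl

theorem prm_U {σ : M24} (h1 : σ.1 none = none) (h2 : σ.1 (some 0) = some 0) :
    prm σ • leechU = leechU := Subtype.ext (funext fun i => by
  simp only [prm_apply, leechU, vecU, Equiv.Perm.inv_eq_iff_eq, h1, h2])

theorem xi_vec {v : Lv} (z : GolayPt → ℤ) (e : ∀ i, 2 * z i = mv xiM v.1 i) : (xi • v).1 = z :=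
  funext fun i => by have := xi_apply v i; rw [← e] at this; omega

theorem prm_vec {v : Lv} {p : ℕ} (hp : isM24 p = true) (z : GolayPt → ℤ)
    (e : ∀ i, z (pt (ap p (idx i))) = v.1 i) : (prm (elt p) • v).1 = z := funext fun i => by
  obtain ⟨j, rfl⟩ := (elt p).1.surjective i
  rw [prm_apply', elt_apply hp, e]

theorem exists_tU : ∃ t : Co0, t • leechU = leechU ∧ (t • e8 none).1 = 
    vec [4, -4, 4, 0, 0, 0, 0, 0, 0, 0, 0, 0, 0, 0, 0, 0, 0, 0, 0, 0, 0, 0, 0, 4] := by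
  have hp : isM24 70550156471245517243604574654333666 = true := by decide +kernel
  have h1 := xi_vec (v := leechU) 
    (vec [0, 4, 4, 0, 0, 0, 0, 0, 0, 0, 0, 0, 0, 0, 0, 0, 0, 0, 0, 0, 0, 0, 0, 0]) (by decide +kernel)
  have h2 := xi_vec (v := e8 none) 
    (vec [4, 4, 4, 0, 0, 0, 0, 0, 0, 0, 0, 0, 0, 0, 0, 0, 0, 0, 0, 0, 0, 0, 0, -4]) (by decide +kernel)
  refine ⟨prm (elt 70550156471245517243604574654333666) * xi, Subtype.ext ?_, ?_⟩ <;> rw [mul_smul] <;> refine prm_vec hp _ ?_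
  · rw [h1]; decide +kernel
  · rw [h2]; decide +kernel

/-- The stabiliser of the short vector has no non-trivial normal 2-subgroup. -/
theorem O2_Co2 {B : Subgroup Co0} (hB : IsPGroup 2 B) (h1 : B ≤ MulAction.stabilizer Co0 leechU)
    (h2 : MulAction.stabilizer Co0 leechU ≤ N[B]) : B = ⊥ := by
  by_contra hne
  have hZ := PG.center_ne_bot hB hne
  have hZn : MulAction.stabilizer Co0 leechU ≤ N[B ⊓ C[B]] :=
    le_norm_inf h2 (h2.trans (norm_le_norm_cent B))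
  have hS : IsPGroup 2 Sg := PG.isPGroup_of_forall_pow (by
    rintro _ ⟨c, -, rfl⟩; rw [sq, sgn_mul_self])
  obtain ⟨b, ⟨hb, hbc⟩, hb1⟩ := exists_ne_one_of_ne_bot (PG.inf_cent_ne_bot
    (A := Sg ⊓ MulAction.stabilizer Co0 leechU) hS.to_inf_left hB.to_inf_left
    (inf_le_right.trans hZn) hZ)
  have h3 : ∀ p, p ≠ none → p ≠ some 0 → b • e8 p = e8 p ∨ b • e8 p = -e8 p := fun p hp hp' =>
    e8_of_comm fun q hq => by
      have key : ∀ q, q ≠ p → q ≠ none → q ≠ some 0 →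
          ∃ c, IsCw c ∧ p ∈ c ∧ q ∉ c ∧ none ∉ c ∧ some 0 ∉ c := fun q h1 h2 h3 => by
        obtain ⟨σ, e1, e2, e3, e4⟩ := tuple4 (a := pt 0) (b := pt 4) (c := pt 6) (d := pt 7) (a' := p)
          (b' := q) (c' := none) (d' := some 0) (by decide)
          (by simp [h1.symm, h2, h3, hp, hp'])
        refine ⟨σ.1 • O0, (mem_octads.1 O0_mem).1.smul σ.2, ?_⟩
        rw [← e1, ← e2, ← e3, ← e4]
        simp only [mem_smul_iff', mem_O0]; decide
      have : ∃ c, IsCw c ∧ p ∈ c ∧ q ∉ c ∧ none ∉ c ∧ some 0 ∉ c := by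
        by_cases h4 : q = none ∨ q = some 0
        · obtain ⟨q', h5⟩ : ∃ q', q' ≠ p ∧ q' ≠ none ∧ q' ≠ some 0 := by
            clear * -; revert p; decide
          obtain ⟨c, hc, h6, -, h7⟩ := key q' h5.1 h5.2.1 h5.2.2
          exact ⟨c, hc, h6, by rcases h4 with rfl | rfl; exacts [h7.1, h7.2], h7⟩
        · exact key q hq (fun h => h4 (Or.inl h)) fun h => h4 (Or.inr h)
      obtain ⟨c, hc, h4, h5, h6⟩ := this
      exact ⟨c, hc, iff_of_true h4 h5, hbc _ ⟨⟨c, hc, rfl⟩, (sgn_U hc).2 h6⟩⟩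
  obtain ⟨c, σ, hc, rfl⟩ := mem_Nm_of_e8 (h3 (pt 1) (by decide) (by decide))
  have : σ = 1 := eq_one_of_fix22 fun p hp hp' => by
    have := h3 p hp hp'
    rw [sgn_prm_e8 hc] at this
    split_ifs at this <;> rcases this with h | h
    · exact absurd h.symm (e8_ne_neg _ _)
    · exact e8_inj (neg_injective h)
    · exact e8_inj h
    · exact absurd h (e8_ne_neg _ _)
  subst this
  rw [map_one, mul_one] at hb hb1
  have hU := (sgn_U hc).1 (h1 hb.1)
  obtain ⟨p₀, hp₀⟩ : c.Nonempty := nonempty_iff_ne_empty.2 fun h => hb1 (by rw [h, sgn_empty])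
  obtain ⟨q₀, hq₀⟩ : ((univ \ c) \ {none, some 0}).Nonempty := by
    by_contra h
    rw [not_nonempty_iff_eq_empty, sdiff_eq_empty_iff_subset] at h
    have := hc.compl.eq_empty (lt_of_le_of_lt (card_le_card h) (by decide))
    exact hU.1 (sdiff_eq_empty_iff_subset.1 this (mem_univ _))
  simp only [mem_sdiff, mem_univ, true_and, mem_insert, mem_singleton, not_or] at hq₀
  have key : ∀ p q, [none, some 0, p, q].Nodup → ∃ d, IsCw d ∧ p ∈ d ∧ q ∉ d ∧ none ∉ d ∧ some 0 ∉ d ∧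
      sgn d ∈ B ⊓ C[B] := fun p q h => by
    obtain ⟨σ, e1, e2, e3, e4⟩ := tuple4 (a := none) (b := some 0) (c := p₀) (d := q₀) (by
      have : p₀ ≠ none := fun h => hU.1 (h ▸ hp₀)
      have : p₀ ≠ some 0 := fun h => hU.2 (h ▸ hp₀)
      have : p₀ ≠ q₀ := fun h => hq₀.1 (h ▸ hp₀)
      simp [*, eq_comm]) h
    refine ⟨σ.1 • c, hc.smul σ.2, ?_, ?_, ?_, ?_, ?_⟩
    · rwa [← e3, mem_smul_iff']
    · rw [← e4, mem_smul_iff']; exact hq₀.1
    · rw [← e1, mem_smul_iff']; exact hU.1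
    · rw [← e2, mem_smul_iff']; exact hU.2
    · rw [← prm_conj_sgn σ hc]; exact conj_mem_of_mem_norm (hZn (prm_U e1 e2)) hb
  have hN : B ≤ Nm := fun b' hb' => mem_Nm_of_e8 (p := pt 1) (e8_of_comm fun q hq => by
    by_cases h4 : q = none ∨ q = some 0
    · obtain ⟨d, hd, h5, -, h6, h7, h8⟩ := key (pt 1) (pt 2) (by decide)
      exact ⟨d, hd, iff_of_true h5 (by rcases h4 with rfl | rfl <;> assumption), (h8.2 _ hb').symm⟩
    · obtain ⟨d, hd, h5, h6, -, -, h8⟩ := key (pt 1) q (by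
        rw [not_or] at h4
        simp only [List.nodup_cons, List.mem_cons, List.not_mem_nil, or_false, not_or,
          List.nodup_nil, not_false_iff, and_true]
        exact ⟨⟨by decide, by decide, Ne.symm h4.1⟩, ⟨by decide, Ne.symm h4.2⟩, hq.symm⟩)
      exact ⟨d, hd, iff_of_true h5 h6, (h8.2 _ hb').symm⟩)
  obtain ⟨t, ht, ht'⟩ := exists_tU
  obtain ⟨d, hd, h5, h6, h7, h8, h9⟩ := key (pt 1) (pt 2) (by decide)
  have := (mem_Nm_iff.1 (hN (conj_mem_of_mem_norm (h2 (inv_mem ht)) h9.1))).smul t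
  rw [inv_inv, mul_smul, mul_smul, smul_inv_smul, sgn_smul hd, ht'] at this
  have h10 := this.dot_mod wv.2
  have : sgnF d (vec [4, -4, 4, 0, 0, 0, 0, 0, 0, 0, 0, 0, 0, 0, 0, 0, 0, 0, 0, 0, 0, 0, 0, 4]) = (vec [4, -4, 4, 0, 0, 0, 0, 0, 0, 0, 0, 0, 0, 0, 0, 0, 0, 0, 0, 0, 0, 0, 0, 4]) + (e8 (pt 1)).1 := funext fun i => by
    rw [sgnF]
    split_ifs with h
    · have : i ≠ none ∧ i ≠ some 0 ∧ i ≠ pt 2 := by
        refine ⟨?_, ?_, ?_⟩ <;> rintro rfl <;> contradiction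
      revert this; clear * -; revert i; decide +kernel
    · have : i ≠ pt 1 := by rintro rfl; contradiction
      revert this; clear * -; revert i; decide +kernel
  rw [this] at h10
  exact absurd h10 (by decide +kernel)

end Cfsg.Agent.Leech
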