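import Cfsg.Agent.Leech.Xi

/-! # The classes of the lattice modulo two under the automorphism group -/

set_option autoImplicit false

namespace Cfsg.Agent.Leech

open Finset Cfsg.Agent.M24 Cfsg.Spor
open scoped symmDiff Pointwise

/-- Some image of `v` is congruent to `y`. -/
def Eqv (v : Lv) (y : GolayPt → ℤ) : Prop := ∃ g : Co0, Cong (g • v).1 y

theorem Cong.mem {x y : GolayPt → ℤ} (h : Cong x y) (hx : x ∈ leechLattice) : y ∈ leechLattice := by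
  obtain ⟨z, hz, e⟩ := h
  rw [show y = x - 2 • z by rw [← e]; abel]
  exact sub_mem hx (nsmul_mem hz 2)

theorem Eqv.of_cong {v : Lv} {y : GolayPt → ℤ} (h : Cong v.1 y) : Eqv v y := ⟨1, h⟩
theorem Eqv.refl (v : Lv) : Eqv v v.1 := ⟨1, Cong.refl _⟩
theorem Eqv.trans {v w : Lv} {y : GolayPt → ℤ} (h : Eqv v w.1) (h' : Eqv w y) : Eqv v y :=
  let ⟨g, hg⟩ := h; let ⟨g', hg'⟩ := h'
  ⟨g' * g, by rw [mul_smul]; exact (hg.smul g').trans hg'⟩
theorem Eqv.symm {v w : Lv} (h : Eqv v w.1) : Eqv w v.1 :=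
  let ⟨g, hg⟩ := h; ⟨g⁻¹, by simpa using (hg.smul g⁻¹).symm⟩
theorem Eqv.smul (v : Lv) (g : Co0) : Eqv v (g • v).1 := ⟨g, Cong.refl _⟩
theorem Orb.eqv {v : Lv} {y : GolayPt → ℤ} (h : Orb v y) : Eqv v y :=
  let ⟨g, hg⟩ := h; ⟨g, hg ▸ Cong.refl _⟩
theorem Eqv.mem {v : Lv} {y : GolayPt → ℤ} (h : Eqv v y) : y ∈ leechLattice :=
  let ⟨g, hg⟩ := h; hg.mem (g • v).2

/-- The vector lies in one of the four classes. -/
def Cls (v : Lv) : Prop := Eqv v 0 ∨ Eqv v vecU ∨ Eqv v vecV ∨ Eqv v (e8 none).1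

theorem Eqv.cls {v w : Lv} (h : Eqv v w.1) (h' : Cls w) : Cls v :=
  h'.imp h.trans (Or.imp h.trans (Or.imp h.trans h.trans))

/-- Standard representatives. -/
def rp (m ε : ℤ) (u : Finset GolayPt) (t : ℤ) (a : GolayPt) : GolayPt → ℤ :=
  fun i => m + 4 * ε * (chi u i - 2 * t * chi {a} i)

theorem red {m ε : ℤ} (hε : ε = 1 ∨ ε = -1) {x y : GolayPt → ℤ} (e : ∀ i, x i = m + 4 * y i) :
    ∃ u : Finset GolayPt, u.card ≤ 4 ∧ Even (∑ i, y i - u.card) ∧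
      ∀ a, Cong x (rp m ε u 0 a) ∨ Cong x (rp m ε u 1 a) := by
  obtain ⟨u, hu, hc⟩ := exists_leader (univ.filter fun i => y i % 2 = 1)
  set c := (univ.filter fun i => y i % 2 = 1) ∆ u
  have h1 : ∀ i, y i = ε * chi u i + chi c i + 2 * ((y i - ε * chi u i - chi c i) / 2) := fun i => by
    have : i ∈ c ↔ (y i % 2 = 1 ∧ i ∉ u) ∨ (i ∈ u ∧ ¬ y i % 2 = 1) := by simp [c, mem_symmDiff]
    unfold chi
    rcases hε with rfl | rfl <;> split_ifs with h2 h3 h3 <;> simp only [this, h2] at h3 <;>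
      simp at h3 <;> omega
  set z := fun i => (y i - ε * chi u i - chi c i) / 2
  obtain ⟨n, hn⟩ := hc.four_dvd
  refine ⟨u, hu, ?_, fun a => ?_⟩
  · rw [sum_congr rfl fun i _ => h1 i]
    simp only [sum_add_distrib, ← mul_sum, sum_chi, hn, Int.even_iff]
    push_cast
    rcases hε with rfl | rfl <;> omega
  · rcases Int.even_or_odd (∑ i, z i) with h | h
    · refine Or.inl (cong_of (mem_of_form 0 z hc (by simpa) fun _ => rfl) fun i => ?_)
      rw [e, h1, rp]; ring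
    · refine Or.inr (cong_of (mem_of_form 0 (fun i => z i + ε * chi {a} i) hc ?_ fun _ => rfl)
        fun i => ?_)
      · rw [sum_add_distrib, ← mul_sum, sum_chi, card_singleton, Int.even_iff]
        rw [Int.odd_iff] at h
        rcases hε with rfl | rfl <;> omega
      · rw [e, h1, rp]; ring

theorem trans_pointed {u u' : Finset GolayPt} {a a' : GolayPt} (ha : a ∈ u) (ha' : a' ∈ u')
    (h : u.card = u'.card) (h5 : u.card ≤ 5) : ∃ g : M24, g.1 • u = u' ∧ g.1 a = a' := by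
  obtain ⟨σ, hσ⟩ := exists_perm_smul h
  obtain ⟨g, hg, e⟩ := agree5 (Equiv.swap (σ a) a' * σ) h5
  refine ⟨⟨g, hg⟩, ?_, by simp [e a ha]⟩
  rw [smul_eq_of_agree e, mul_smul, hσ]
  have h1 : σ a ∈ u' := hσ ▸ smul_mem_smul_finset ha
  ext b
  rw [← inv_smul_mem_iff, Equiv.swap_inv, Equiv.Perm.smul_def, Equiv.swap_apply_def]
  split_ifs with h2 h3
  · simp [h2, h1, ha']
  · simp [h3, h1, ha']
  · rfl

theorem eqv_rp {m ε t : ℤ} {v : Lv} {u : Finset GolayPt} {a : GolayPt} (h : Cong v.1 (rp m ε u t a))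
    (ha : a ∈ u) (u' : ℕ) (hu : u' < 2 ^ 24 ∧ u'.testBit 23 = true) (hc : u.card = pc u')
    (h5 : u.card ≤ 5) : Eqv v (rp m ε (unmask u') t none) := by
  obtain ⟨g, h1, h2⟩ := trans_pointed (u' := unmask u') (a' := none) ha (mem_unmask.2 hu.2)
    (by rw [hc, card_unmask hu.1]) h5
  refine ⟨prm g, ?_⟩
  convert (Cong.smul (w := ⟨_, h.mem v.2⟩) h (prm g)) using 1
  funext i
  rw [prm_apply, ← h1, ← h2]
  simp only [rp, ← chi_smul, smul_finset_singleton, Equiv.Perm.smul_def]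

theorem Eqv.link {v : Lv} {x : GolayPt → ℤ} (h : Eqv v x) {y : GolayPt → ℤ}
    (h' : ∀ hx, Orb ⟨x, hx⟩ y) : Eqv v y := Eqv.trans (w := ⟨x, h.mem⟩) h (h' _).eqv

theorem link_a2 (hx) : Orb ⟨rp 1 (-1) (unmask 8388608) 0 none, hx⟩ vecU :=
  ((((((((Orb.of_eq (y := vec [1, 1, 1, 1, 1, 1, 1, 1, 1, 1, 1, 1, 1, 1, 1, 1, 1, 1, 1, 1, 1, 1, 1, -3])
    (by dsimp only; decide +kernel)).sg
    16596579
    (vec [-1, -1, 1, 1, 1, -1, -1, 1, 1, -1, -1, -1, -1, -1, 1, 1, -1, 1, -1, -1, -1, -1, -1, 3]) (by decide +kernel)).xi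
   
    (vec [2, 2, 0, 0, 2, -2, 0, 2, 2, 0, 0, 0, 0, 0, 0, 2, 0, 0, 0, 0, 0, 0, 0, -2]) (by decide +kernel)).pr
    706831326709689176338412696963027299
    (vec [0, 0, 0, 2, 0, 2, 0, 0, 2, 0, 0, 2, 2, 0, 2, 0, 0, -2, -2, 0, 0, 0, 0, 0]) (by decide +kernel)).sg
    5628190
    (vec [0, 0, 0, -2, 0, 2, 0, 0, -2, 0, 0, 2, 2, 0, -2, 0, 0, -2, 2, 0, 0, 0, 0, 0]) (by decide +kernel)).xi
   
    (vec [0, 0, 0, 0, 0, 4, 0, 0, -4, 0, 0, 0, 0, 0, 0, 0, 0, 0, 0, 0, 0, 0, 0, 0]) (by decide +kernel)).pr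
    148607553136714266531975085102374278
    (vec [4, 0, 0, 0, 0, 0, 0, 0, 0, 0, 0, 0, 0, 0, 0, 0, 0, 0, 0, 0, 0, 0, 0, -4]) (by decide +kernel)).sg
    13938692
    (vec [4, 0, 0, 0, 0, 0, 0, 0, 0, 0, 0, 0, 0, 0, 0, 0, 0, 0, 0, 0, 0, 0, 0, 4]) (by decide +kernel)).eq _ (by decide +kernel)

theorem link_a1 (hx) : Orb ⟨rp 1 (-1) (unmask 8388608) 1 none, hx⟩ vecV :=
  ((Orb.of_eq (y := vec [1, 1, 1, 1, 1, 1, 1, 1, 1, 1, 1, 1, 1, 1, 1, 1, 1, 1, 1, 1, 1, 1, 1, 5])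
    (by dsimp only; decide +kernel)).sg
    16777215
    (vec [-1, -1, -1, -1, -1, -1, -1, -1, -1, -1, -1, -1, -1, -1, -1, -1, -1, -1, -1, -1, -1, -1, -1, -5]) (by decide +kernel)).eq _ (by decide +kernel)

theorem link_a3 (hx) : Orb ⟨rp 1 (-1) (unmask 8388611) 0 none, hx⟩ vecV :=
  (((Orb.of_eq (y := vec [-3, -3, 1, 1, 1, 1, 1, 1, 1, 1, 1, 1, 1, 1, 1, 1, 1, 1, 1, 1, 1, 1, 1, -3])
    (by dsimp only; decide +kernel)).xi
   
    (vec [-1, -1, -5, -1, -1, -1, -1, -1, -1, -1, -1, -1, -1, -1, -1, -1, -1, -1, -1, -1, -1, -1, -1, -1]) (by decide +kernel)).pr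
    278072169032614438340154781791312942
    (vec [-1, -1, -1, -1, -1, -1, -1, -1, -1, -1, -1, -1, -1, -1, -1, -1, -1, -1, -1, -1, -1, -1, -1, -5]) (by decide +kernel)).eq _ (by decide +kernel)

theorem link_a4 (hx) : Orb ⟨rp 1 (-1) (unmask 8388611) 1 none, hx⟩ (e8 none).1 :=
  (((((((((Orb.of_eq (y := vec [-3, -3, 1, 1, 1, 1, 1, 1, 1, 1, 1, 1, 1, 1, 1, 1, 1, 1, 1, 1, 1, 1, 1, 5])
    (by dsimp only; decide +kernel)).sg
    14979558
    (vec [-3, 3, -1, 1, 1, -1, -1, -1, -1, 1, 1, 1, -1, 1, 1, -1, 1, 1, -1, 1, 1, -1, -1, -5]) (by decide +kernel)).xi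
   
    (vec [0, -6, -2, 0, 0, -2, 0, 0, 0, 0, 0, 2, 0, 0, 0, -2, 0, 0, 0, 2, 0, 0, -2, 2]) (by decide +kernel)).pr
    760728857299036021033544739692199278
    (vec [0, 0, 0, 0, 0, 0, 0, 0, 2, -2, -2, -6, -2, 0, 0, -2, 0, 0, 2, 0, 2, 0, 0, 0]) (by decide +kernel)).sg
    13652978
    (vec [0, 0, 0, 0, 0, 0, 0, 0, -2, 2, -2, -6, 2, 0, 0, -2, 0, 0, 2, 0, -2, 0, 0, 0]) (by decide +kernel)).xi
   
    (vec [0, 0, 0, 0, 0, 0, 0, 0, 0, 4, 0, -4, 4, 0, 0, 0, 0, 0, 4, 0, 0, 0, 0, 0]) (by decide +kernel)).pr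
    548492993314907233257327300131101866
    (vec [4, -4, 4, 0, 0, 0, 0, 0, 0, 0, 0, 0, 0, 0, 0, 0, 0, 0, 0, 0, 0, 0, 0, 4]) (by decide +kernel)).sg
    13811730
    (vec [4, 4, 4, 0, 0, 0, 0, 0, 0, 0, 0, 0, 0, 0, 0, 0, 0, 0, 0, 0, 0, 0, 0, -4]) (by decide +kernel)).xi
   
    (vec [0, 0, 0, 0, 0, 0, 0, 0, 0, 0, 0, 0, 0, 0, 0, 0, 0, 0, 0, 0, 0, 0, 0, 8]) (by decide +kernel)).eq _ (by decide +kernel)

theorem link_b0 (hx) : Orb ⟨rp 0 1 (unmask 8388609) 0 none, hx⟩ vecU :=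
  (Orb.of_eq (y := vec [4, 0, 0, 0, 0, 0, 0, 0, 0, 0, 0, 0, 0, 0, 0, 0, 0, 0, 0, 0, 0, 0, 0, 4])
    (by dsimp only; decide +kernel)).eq _ (by decide +kernel)

theorem link_b1 (hx) : Orb ⟨rp 0 1 (unmask 8388609) 1 none, hx⟩ vecU :=
  ((Orb.of_eq (y := vec [4, 0, 0, 0, 0, 0, 0, 0, 0, 0, 0, 0, 0, 0, 0, 0, 0, 0, 0, 0, 0, 0, 0, -4])
    (by dsimp only; decide +kernel)).sg
    13938692
    (vec [4, 0, 0, 0, 0, 0, 0, 0, 0, 0, 0, 0, 0, 0, 0, 0, 0, 0, 0, 0, 0, 0, 0, 4]) (by decide +kernel)).eq _ (by decide +kernel)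

theorem link_c0 (hx) : Orb ⟨rp 0 1 (unmask 8388615) 0 none, hx⟩ (e8 none).1 :=
  (((Orb.of_eq (y := vec [4, 4, 4, 0, 0, 0, 0, 0, 0, 0, 0, 0, 0, 0, 0, 0, 0, 0, 0, 0, 0, 0, 0, 4])
    (by dsimp only; decide +kernel)).sg
    10170384
    (vec [4, 4, 4, 0, 0, 0, 0, 0, 0, 0, 0, 0, 0, 0, 0, 0, 0, 0, 0, 0, 0, 0, 0, -4]) (by decide +kernel)).xi
   
    (vec [0, 0, 0, 0, 0, 0, 0, 0, 0, 0, 0, 0, 0, 0, 0, 0, 0, 0, 0, 0, 0, 0, 0, 8]) (by decide +kernel)).eq _ (by decide +kernel)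

theorem link_c1 (hx) : Orb ⟨rp 0 1 (unmask 8388615) 1 none, hx⟩ (e8 none).1 :=
  ((Orb.of_eq (y := vec [4, 4, 4, 0, 0, 0, 0, 0, 0, 0, 0, 0, 0, 0, 0, 0, 0, 0, 0, 0, 0, 0, 0, -4])
    (by dsimp only; decide +kernel)).xi
   
    (vec [0, 0, 0, 0, 0, 0, 0, 0, 0, 0, 0, 0, 0, 0, 0, 0, 0, 0, 0, 0, 0, 0, 0, 8]) (by decide +kernel)).eq _ (by decide +kernel)

theorem cls_odd {v : Lv} (h : v.1 none % 2 = 1) : Cls v := by
  obtain ⟨m, c, y, hm, hc, -, e⟩ := exists_form v.2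
  have hm : m = 1 := by have := e none; omega
  subst hm
  refine (Eqv.smul v (sgn c)).cls ?_
  have e' : ∀ i, (sgn c • v).1 i = 1 + 4 * (y i - chi c i * (2 * y i + 1)) := fun i => by
    rw [sgn_apply hc, e]; unfold chi; split_ifs <;> ring
  obtain ⟨u, hu, hp, h⟩ := red (Or.inr rfl) e'
  have h2 := (inL_iff.2 (sgn c • v).2).2.1
  rw [sum_congr rfl fun i _ => e' i, sum_add_distrib, sum_const_pt, ← mul_sum, e'] at h2
  rw [Int.even_iff] at hp
  obtain ⟨a, ha⟩ : u.Nonempty := card_pos.1 (by omega)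
  have h13 : u.card = 1 ∨ u.card = 3 := by omega
  rcases h13 with h1 | h1 <;> rcases h a with h | h
  · exact Or.inr (Or.inl ((eqv_rp h ha 8388608 (by decide) (h1.trans (by decide +kernel))
      (by omega)).link link_a2))
  · exact Or.inr (Or.inr (Or.inl ((eqv_rp h ha 8388608 (by decide) (h1.trans (by decide +kernel))
      (by omega)).link link_a1)))
  · exact Or.inr (Or.inr (Or.inl ((eqv_rp h ha 8388611 (by decide) (h1.trans (by decide +kernel))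
      (by omega)).link link_a3)))
  · exact Or.inr (Or.inr (Or.inr ((eqv_rp h ha 8388611 (by decide) (h1.trans (by decide +kernel))
      (by omega)).link link_a4)))

theorem cls_four {v : Lv} {y : GolayPt → ℤ} (e : ∀ i, v.1 i = 0 + 4 * y i) : Cls v := by
  obtain ⟨u, hu, hp, h⟩ := red (Or.inl rfl) e
  have h2 := (inL_iff.2 v.2).2.1
  rw [sum_congr rfl fun i _ => e i, sum_add_distrib, sum_const_pt, ← mul_sum, e] at h2
  rw [Int.even_iff] at hp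
  by_cases h0 : u = ∅
  · subst h0
    rcases h none with h | h
    · left; convert Eqv.of_cong h using 1; funext i; simp [rp, chi]
    · refine Or.inr (Or.inr (Or.inr (Eqv.of_cong (h.trans ?_))))
      convert cong_neg (e8 none).2 using 1; funext i; simp [rp, chi_empty, e8]; ring
  obtain ⟨a, ha⟩ : u.Nonempty := nonempty_iff_ne_empty.2 h0
  have h24 : u.card = 2 ∨ u.card = 4 := by have := card_pos.2 ⟨a, ha⟩; omega
  rcases h24 with h1 | h1 <;> rcases h a with h | h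
  · exact Or.inr (Or.inl ((eqv_rp h ha 8388609 (by decide) (h1.trans (by decide +kernel))
      (by omega)).link link_b0))
  · exact Or.inr (Or.inl ((eqv_rp h ha 8388609 (by decide) (h1.trans (by decide +kernel))
      (by omega)).link link_b1))
  · exact Or.inr (Or.inr (Or.inr ((eqv_rp h ha 8388615 (by decide) (h1.trans (by decide +kernel))
      (by omega)).link link_c0)))
  · exact Or.inr (Or.inr (Or.inr ((eqv_rp h ha 8388615 (by decide) (h1.trans (by decide +kernel))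
      (by omega)).link link_c1)))

theorem mv_xiM_none (x : GolayPt → ℤ) :
    mv xiM x none = -2 * x none + ∑ j ∈ unmask 8388615, x j := by
  have : ∀ j, xiM none j = -2 * chi {none} j + chi (unmask 8388615) j := by decide +kernel
  simp only [mv, this, add_mul, sum_add_distrib, sum_chi_mul, mul_assoc, ← mul_sum, sum_singleton]

theorem cls (v : Lv) : Cls v := by
  obtain ⟨m, c, y, hm, hc, -, e⟩ := exists_form v.2
  rcases hm with rfl | rfl
  swap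
  · exact cls_odd (by rw [e]; omega)
  by_cases h0 : c = ∅
  · exact cls_four (y := y) fun i => by rw [e, h0, chi_empty]; simp
  by_cases h1 : c = univ
  · refine (Eqv.of_cong (v := v) (y := (v - (wv + wv)).1) ⟨_, wv.2, by simp [two_smul]⟩).cls ?_
    exact cls_four (y := fun i => y i + 2 * chi {none} i) fun i => by
      simp only [AddSubgroup.coe_sub, AddSubgroup.coe_add, Pi.sub_apply, Pi.add_apply, e, h1,
        chi_univ, wv]
      ring
  obtain ⟨a, ha⟩ := nonempty_iff_ne_empty.2 h0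
  have h8 : 3 ≤ (univ \ c).card := by
    by_contra h
    exact h1 (univ_subset_iff.1 (sdiff_eq_empty_iff_subset.1 (hc.compl.eq_empty (by omega))))
  obtain ⟨s, hs, hs3⟩ := exists_subset_card_eq h8
  have has : a ∉ s := fun h => (mem_sdiff.1 (hs h)).2 ha
  obtain ⟨g, hg, hT⟩ := trans_sets (s := insert a s) (t := unmask 8388615)
    (by rw [card_insert_of_notMem has, hs3]; decide +kernel) (by rw [card_insert_of_notMem has]; omega)
  refine (Eqv.smul v (xi * prm ⟨g, hg⟩)).cls (cls_odd ?_)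
  have h2 := xi_apply (prm ⟨g, hg⟩ • v) none
  rw [mv_xiM_none, ← hT, smul_finset_def, sum_image (fun _ _ _ _ h => MulAction.injective g h)] at h2
  have h3 : ∀ i, (prm ⟨g, hg⟩ • v).1 (g • i) = v.1 i := prm_apply' ⟨g, hg⟩ v
  have h4 : ∑ i ∈ s, chi c i = 0 := sum_eq_zero fun i hi => if_neg (mem_sdiff.1 (hs hi)).2
  have h5 : chi c a = 1 := if_pos ha
  simp only [h3, prm_apply, e, sum_insert has, sum_add_distrib, ← mul_sum, h4, h5,
    sum_const_zero] at h2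
  rw [mul_smul]; omega

theorem norm_U : sqNorm vecU = 32 := by decide +kernel
theorem norm_V : sqNorm vecV = 48 := by decide +kernel

theorem Eqv.norm_eq {v : Lv} {y : GolayPt → ℤ} (h : Eqv v y) (h1 : sqNorm v.1 ≤ 64)
    (h2 : sqNorm y ≤ 64) : sqNorm v.1 = sqNorm y := by
  obtain ⟨g, hg⟩ := h
  rw [← norm_smul g v] at h1 ⊢
  exact hg.norm_eq (hg.mem (g • v).2) h1 h2

theorem Eqv.norm_mod {v : Lv} {y : GolayPt → ℤ} (h : Eqv v y) : 32 ∣ sqNorm v.1 - sqNorm y := by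
  obtain ⟨g, hg⟩ := h
  rw [← norm_smul g v]
  exact hg.norm_mod (hg.mem (g • v).2)

theorem Eqv.orb {v : Lv} {y : GolayPt → ℤ} (h : Eqv v y) (h1 : sqNorm v.1 < 64)
    (h2 : sqNorm y ≤ 64) : Orb v y := by
  obtain ⟨g, hg⟩ := h
  rcases short_cong (hg.mem (g • v).2) (by rw [norm_smul]; omega) h2 hg with h | h | h
  · exact ⟨g, h⟩
  · exact ⟨ng * g, by rw [mul_smul, ng_smul, AddSubgroup.coe_neg, h, neg_neg]⟩
  · rw [norm_smul] at h; omega

theorem eqv_of_norm {v w : Lv} (h : sqNorm v.1 = sqNorm w.1) (h1 : sqNorm v.1 ≤ 64) : Eqv v w.1 := by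
  have key : ∀ x : Lv, sqNorm x.1 ≤ 64 → (sqNorm x.1 = 0 ∧ Eqv x (0 : Lv).1) ∨
      (sqNorm x.1 = 32 ∧ Eqv x leechU.1) ∨ (sqNorm x.1 = 48 ∧ Eqv x leechV.1) ∨
      (sqNorm x.1 = 64 ∧ Eqv x (e8 none).1) := fun x hx => by
    rcases cls x with h | h | h | h
    · exact Or.inl ⟨by rw [h.norm_eq hx (by rw [sqNorm_zero]; omega), sqNorm_zero], h⟩
    · exact Or.inr (Or.inl ⟨by rw [h.norm_eq hx (by rw [norm_U]; omega), norm_U], h⟩)
    · exact Or.inr (Or.inr (Or.inl ⟨by rw [h.norm_eq hx (by rw [norm_V]; omega), norm_V], h⟩))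
    · exact Or.inr (Or.inr (Or.inr ⟨by rw [h.norm_eq hx (norm_e8 _).le, norm_e8], h⟩))
  rcases key v h1 with h2 | h2 | h2 | h2 <;> rcases key w (h ▸ h1) with h3 | h3 | h3 | h3 <;>
    first | exact h2.2.trans h3.2.symm | omega

/-- Transitivity on the vectors of norm 32 and on those of norm 48. -/
theorem trans_short {v w : Lv} (h : sqNorm v.1 = sqNorm w.1) (h1 : sqNorm v.1 < 64) :
    ∃ g : Co0, g • v = w :=
  let ⟨g, hg⟩ := (eqv_of_norm h h1.le).orb h1 (by omega); ⟨g, Subtype.ext hg⟩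

/-- Every class contains a short vector. -/
theorem exists_short (v : Lv) : ∃ w : Lv, Cong v.1 w.1 ∧
    (w = 0 ∨ sqNorm w.1 = 32 ∨ sqNorm w.1 = 48 ∨ sqNorm w.1 = 64) := by
  have key : ∀ r : Lv, Eqv v r.1 → ∃ g : Co0, Cong v.1 (g • r).1 := fun r h =>
    let ⟨g, hg⟩ := h.symm; ⟨g, hg.symm⟩
  rcases cls v with h | h | h | h
  · obtain ⟨g, hg⟩ := key 0 h; exact ⟨_, hg, Or.inl (smul_zero g)⟩
  · obtain ⟨g, hg⟩ := key leechU h; exact ⟨_, hg, Or.inr (Or.inl ((norm_smul _ _).trans norm_U))⟩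
  · obtain ⟨g, hg⟩ := key leechV h
    exact ⟨_, hg, Or.inr (Or.inr (Or.inl ((norm_smul _ _).trans norm_V)))⟩
  · obtain ⟨g, hg⟩ := key _ h
    exact ⟨_, hg, Or.inr (Or.inr (Or.inr ((norm_smul _ _).trans (norm_e8 _))))⟩

end Cfsg.Agent.Leech
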